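import Cfsg.Agent.FGS4.CentralExt.Engine

/-! The certificate for double covers of `PSL₃(4)`, as the stabiliser of three points in `M₂₄`. -/

set_option autoImplicit false
set_option maxRecDepth 100000

namespace Cfsg.Agent.FGS4.CentralExt.L34

/-- The codes of the letters. -/
def letters : List ℕ := [984817807576581398123347683382069536, 984818104342369251485136392171194944, 984809014443817583354678977516013603, 984805330331391781625161798575851567, 984810519793127379929428165611685931, 984792614215316959848537197175539764, 984805329143595020694614473516885024, 984817643663241256181675499491199072]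

/-- The certificate. -/
def cert : Cert where
  rules := [([0, 0], []), ([1, 1], []), ([2, 2], []), ([3, 3], []), ([4, 4], []), ([5, 5], []), ([1, 0], [0, 1]), ([2, 0], [0, 2, 4]), ([2, 1], [1, 2, 5]), ([3, 0], [0, 3, 5]), ([3, 1], [1, 3, 4, 5]), ([3, 2], [2, 3]), ([4, 0], [0, 4]), ([4, 1], [1, 4]), ([4, 2], [2, 4]), ([4, 3], [3, 4]), ([5, 0], [0, 5]), ([5, 1], [1, 5]), ([5, 2], [2, 5]), ([5, 3], [3, 5]), ([5, 4], [4, 5]), ([6, 2], [2, 6]), ([6, 3, 4], [2, 3, 4, 6]), ([6, 4], [2, 4, 6]), ([6, 5], [3, 5, 6]), ([7, 0], [0, 7]), ([7, 1], [1, 7]), ([7, 4], [0, 4, 7]), ([7, 5], [1, 5, 7])]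
  loops := [
    (([2, 0, 0], [(0, 7, false), (2, 12, false), (1, 7, false), (0, 0, false), (1, 4, false)], [(1, 0, false)]), 4112),
    (([2, 1, 0], [(0, 8, false), (2, 16, false), (1, 7, false), (0, 6, false)], [(1, 6, false), (0, 7, false), (2, 13, false), (1, 8, false), (3, 20, false)]), 1122304),
    (([2, 1, 1], [(0, 8, false), (2, 17, false), (1, 8, false), (0, 1, false), (1, 5, false)], [(1, 1, false)]), 131104),
    (([2, 2, 0], [(0, 2, false)], [(1, 7, false), (0, 7, false), (2, 14, false), (1, 2, false), (1, 4, false)]), 16400),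
    (([2, 2, 1], [(0, 2, false)], [(1, 8, false), (0, 8, false), (2, 18, false), (1, 2, false), (1, 5, false)]), 262176),
    (([3, 0, 0], [(0, 9, false), (2, 16, false), (1, 9, false), (0, 0, false), (1, 5, false)], [(1, 0, false)]), 65568),
    (([3, 1, 0], [(0, 10, false), (3, 16, false), (2, 12, false), (1, 9, false), (0, 6, false), (3, 20, false), (4, 5, false)], [(1, 6, false), (0, 9, false), (2, 17, false), (1, 10, false), (4, 5, false)]), 1249280),
    (([3, 1, 1], [(0, 10, false), (3, 17, false), (2, 13, false), (1, 10, false), (0, 1, false), (2, 20, false), (1, 4, false), (1, 5, false)], [(1, 1, false)]), 1187888),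
    (([3, 2, 0], [(0, 11, false), (1, 9, false), (0, 7, false), (2, 15, false)], [(1, 7, false), (0, 9, false), (2, 18, false), (1, 11, false), (3, 20, false)]), 1343488),
    (([3, 2, 1], [(0, 11, false), (1, 10, false), (0, 8, false), (2, 19, false), (3, 20, false), (4, 5, false)], [(1, 8, false), (0, 10, false), (3, 18, false), (2, 14, false), (1, 11, false), (4, 5, false)]), 1851392),
    (([4, 2, 1], [(0, 14, false), (1, 13, false), (0, 8, false), (2, 20, false)], [(1, 8, false), (0, 13, false), (1, 14, false)]), 1048576),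
    (([6, 3, 4, 3, 4], [(0, 22, false), (3, 22, false), (2, 14, false), (1, 11, false), (0, 2, false), (1, 15, false), (0, 3, false), (0, 4, false)], [(2, 15, false), (1, 3, false), (1, 4, false)]), 18436),
    (([6, 4, 3, 4], [(0, 23, false), (2, 22, false), (1, 14, false), (0, 2, false), (0, 15, false), (1, 4, false)], [(1, 15, false), (2, 4, false), (2, 4, true), (0, 22, false), (3, 23, false), (2, 14, false), (1, 11, false), (0, 2, false), (1, 4, false)]), 2048),
    (([6, 5, 5], [(0, 24, false), (2, 24, false), (1, 19, false), (0, 3, false), (0, 5, false)], [(1, 5, false)]), 524296),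
    (([7, 4, 1], [(0, 27, false), (2, 26, false), (1, 13, false)], [(1, 13, false), (0, 26, false), (1, 27, false), (0, 6, false)]), 64),
    (([7, 4, 4], [(0, 27, false), (2, 27, false), (1, 12, false), (0, 0, false), (0, 4, false)], [(1, 4, false)]), 4097),
    (([7, 5, 5], [(0, 28, false), (2, 28, false), (1, 17, false), (0, 1, false), (0, 5, false)], [(1, 5, false)]), 131074)]
  R := [0, 0, 0, 0, 128, 256]
  lam₁ := 768
  lam₂ := 1408
  basis := [(4112, 0), (1122304, 1), (131104, 2), (16400, 3), (262176, 4), (65568, 5), (1249280, 6), (1187888, 7), (1343488, 8), (1851392, 9), (1048576, 10), (18436, 11), (2048, 12), (524296, 13), (64, 14), (4097, 15), (131074, 16), (768, 0), (1408, 0)]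
  sels := [33892, 66759, 7277, 9918, 1125, 1219, 16384, 0, 0, 131072, 262144, 4096, 1124, 225, 1133, 467, 1251, 1223, 1235, 1726, 1024]

end Cfsg.Agent.FGS4.CentralExt.L34
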